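import Mathlib

/-!
# helper74: S14816 piece (FA) — a field algebraic over `𝔽_p` is a filtered colimit of finite fields
-/

set_option autoImplicit false
set_option linter.style.haveILetI false
set_option linter.unusedVariables false
universe u
open CategoryTheory CategoryTheory.Limits

namespace Groth.Agent.H74.FO.FA

section
variable (F : Type) (k : Type u) [Field F] [Field k] [Algebra F k]

/-- finite subfields -/
abbrev FinSub : Type u := {K : IntermediateField F k // Finite K}

variable {F k}

/-- inclusions -/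
noncomputable def incl {K L : FinSub F k} (h : K ≤ L) : K.1 →+* L.1 :=
  (IntermediateField.inclusion (show K.1 ≤ L.1 from h)).toRingHom

theorem incl_val {K L : FinSub F k} (h : K ≤ L) (x : K.1) :
    ((incl h x : L.1) : k) = (x : k) :=
  IntermediateField.coe_inclusion (show K.1 ≤ L.1 from h) x

variable (F k)

/-- the diagram of finite subfields -/
noncomputable def R : FinSub F k ⥤ CommRingCat.{u} where
  obj K := CommRingCat.of K.1
  map {K L} h := CommRingCat.ofHom (incl (leOfHom h))
  map_id K := CommRingCat.hom_ext (RingHom.ext fun x => Subtype.ext (incl_val (le_refl K) x))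
  map_comp {K L M} f g := by
    refine CommRingCat.hom_ext (RingHom.ext fun x => Subtype.ext ?_)
    show ((incl (leOfHom (f ≫ g)) x : M.1) : k) =
      ((incl (leOfHom g) (incl (leOfHom f) x) : M.1) : k)
    rw [incl_val, incl_val, incl_val]

/-- the inclusions -/
noncomputable def inc : R F k ⟶ (Functor.const _).obj (CommRingCat.of k) where
  app K := CommRingCat.ofHom K.1.val.toRingHom
  naturality K L h := by
    ext x
    rfl

end

theorem aux (F : Type) (k : Type u) [Field F] [Finite F] [Field k] [Algebra F k]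
    [Algebra.IsIntegral F k] :
    ∃ (J : Type u) (_ : SmallCategory J) (_ : IsFiltered J) (R : J ⥤ CommRingCat.{u})
      (ι : R ⟶ (Functor.const J).obj (CommRingCat.of k)),
      Nonempty (IsColimit (Cocone.mk (CommRingCat.of k) ι)) ∧
      ∀ n : J, IsField (R.obj n) ∧ Finite (R.obj n) := by
  classical
  have hsup : ∀ K L : FinSub F k, Finite ↥(K.1 ⊔ L.1) := fun K L => by
    haveI : Finite K.1 := K.2
    haveI : Finite L.1 := L.2
    haveI : FiniteDimensional F ↥(K.1 ⊔ L.1) := IntermediateField.finiteDimensional_sup K.1 L.1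
    exact Module.finite_of_finite F
  have hsimple : ∀ x : k, Finite ↥(IntermediateField.adjoin F {x}) := fun x => by
    haveI : FiniteDimensional F ↥(IntermediateField.adjoin F {x}) :=
      IntermediateField.adjoin.finiteDimensional (Algebra.IsIntegral.isIntegral x)
    exact Module.finite_of_finite F
  haveI : Nonempty (FinSub F k) := ⟨⟨IntermediateField.adjoin F {0}, hsimple 0⟩⟩
  haveI : IsDirected (FinSub F k) (· ≤ ·) :=
    ⟨fun K L => ⟨⟨K.1 ⊔ L.1, hsup K L⟩, show K.1 ≤ K.1 ⊔ L.1 from le_sup_left,
      show L.1 ≤ K.1 ⊔ L.1 from le_sup_right⟩⟩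
  refine ⟨FinSub F k, inferInstance, inferInstance, R F k, inc F k, ⟨?_⟩, fun K => ⟨?_, K.2⟩⟩
  · -- colimit
    haveI : ReflectsColimit (R F k) (forget CommRingCat.{u}) :=
      reflectsColimit_of_reflectsIsomorphisms _ _
    apply isColimitOfReflects (forget CommRingCat.{u})
    apply Types.FilteredColimit.isColimitOf
    · intro (x : k)
      exact ⟨⟨IntermediateField.adjoin F {x}, hsimple x⟩,
        (⟨x, IntermediateField.mem_adjoin_simple_self F x⟩ : ↥(IntermediateField.adjoin F {x})),
        rfl⟩
    · intro K L xs xt h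
      refine ⟨⟨K.1 ⊔ L.1, hsup K L⟩, homOfLE (show K.1 ≤ K.1 ⊔ L.1 from le_sup_left),
        homOfLE (show L.1 ≤ K.1 ⊔ L.1 from le_sup_right), ?_⟩
      apply Subtype.ext
      exact h
  · show IsField K.1
    exact (Field.toIsField K.1)

/-- (FA) a field algebraic over `𝔽_p` is a filtered colimit of finite fields -/
theorem exists_finite_field_system (p : ℕ) [Fact p.Prime] (k : Type u) [Field k] [CharP k p]
    (halg : ∀ x : k, ∃ n : ℕ, 0 < n ∧ x ^ (p ^ n) = x) :
    ∃ (J : Type u) (_ : SmallCategory J) (_ : IsFiltered J) (R : J ⥤ CommRingCat.{u})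
      (ι : R ⟶ (Functor.const J).obj (CommRingCat.of k)),
      Nonempty (IsColimit (Cocone.mk (CommRingCat.of k) ι)) ∧
      ∀ n : J, IsField (R.obj n) ∧ Finite (R.obj n) := by
  letI : Algebra (ZMod p) k := ZMod.algebra k p
  haveI : Algebra.IsIntegral (ZMod p) k := ⟨fun x => by
    obtain ⟨n, hn, hx⟩ := halg x
    refine ⟨Polynomial.X ^ (p ^ n) - Polynomial.X, Polynomial.monic_X_pow_sub ?_, ?_⟩
    · rw [Polynomial.degree_X]
      exact_mod_cast Nat.one_lt_pow hn.ne' (Fact.out : p.Prime).one_lt
    · simp [hx]⟩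
  exact aux (ZMod p) k

end Groth.Agent.H74.FO.FA
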