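import Mathlib
import Groth.Agent.H24.LimSection

/-!
# helper74: S14816 piece (MD) — an endomorphism and a section of a base change to the limit
descend to a finite stage
-/

set_option autoImplicit false
set_option linter.style.haveILetI false
universe u
open CategoryTheory CategoryTheory.Limits AlgebraicGeometry

namespace Groth.Agent.H74.FO.MD

open Groth.Agent.H24

/-- (MD) an endomorphism and a section of a base change to the limit descend to a stage -/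
theorem exists_stage_endo_section {I : Type u} [SmallCategory I] [IsCofiltered I]
    (D : I ⥤ Scheme.{u}) (c : Cone D) (hc : IsLimit c)
    [∀ (i j : I) (f : i ⟶ j), IsAffineHom (D.map f)] [∀ i, CompactSpace (D.obj i)]
    [∀ i, QuasiSeparatedSpace (D.obj i)] (i₀ : I)
    {X₀ : Scheme.{u}} (f₀ : X₀ ⟶ D.obj i₀) [LocallyOfFinitePresentation f₀] [QuasiCompact f₀]
    [QuasiSeparated f₀]
    {X : Scheme.{u}} (g : X ⟶ c.pt) (q : X ⟶ X₀) (hX : IsPullback q g f₀ (c.π.app i₀))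
    (r : X ⟶ X) (hr : r ≫ g = g) (a : c.pt ⟶ X) (ha : a ≫ g = 𝟙 _) :
    ∃ (j : I) (φ : j ⟶ i₀) (rj : pullback f₀ (D.map φ) ⟶ pullback f₀ (D.map φ))
      (aj : D.obj j ⟶ pullback f₀ (D.map φ)),
      rj ≫ pullback.snd f₀ (D.map φ) = pullback.snd f₀ (D.map φ) ∧
      aj ≫ pullback.snd f₀ (D.map φ) = 𝟙 _ ∧
      r ≫ pullback.lift q (g ≫ c.π.app j) (by rw [hX.w, Category.assoc, c.w]) =
        pullback.lift q (g ≫ c.π.app j) (by rw [hX.w, Category.assoc, c.w]) ≫ rj ∧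
      a ≫ pullback.lift q (g ≫ c.π.app j) (by rw [hX.w, Category.assoc, c.w]) =
        c.π.app j ≫ aj := by
  classical
  haveI hA : ∀ {i j : I} (f : i ⟶ j), IsAffineHom (D.map f) := fun f => inferInstance
  -- Step A: the section
  have hcO : IsLimit (c.whisker (Over.forget i₀)) :=
    (Functor.Initial.isLimitWhiskerEquiv (Over.forget i₀) c).symm hc
  haveI : ∀ j : Over i₀, CompactSpace ((Over.forget i₀ ⋙ D).obj j) := fun j => by
    show CompactSpace (D.obj j.left)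
    infer_instance
  haveI : ∀ j : Over i₀, QuasiSeparatedSpace ((Over.forget i₀ ⋙ D).obj j) := fun j => by
    show QuasiSeparatedSpace (D.obj j.left)
    infer_instance
  haveI : ∀ {j k : Over i₀} (f : j ⟶ k), IsAffineHom ((Over.forget i₀ ⋙ D).map f) :=
    fun f => by
      show IsAffineHom (D.map f.left)
      infer_instance
  have key1 : ∃ (j₁ : Over i₀) (α : D.obj j₁.left ⟶ X₀),
      c.π.app j₁.left ≫ α = a ≫ q ∧ α ≫ f₀ = D.map j₁.hom :=
    Scheme.exists_π_app_comp_eq_of_locallyOfFinitePresentation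
    (Over.forget i₀ ⋙ D) (overT D i₀) f₀ (c.whisker (Over.forget i₀)) hcO (a ≫ q) (by
      refine NatTrans.ext (funext fun j => ?_)
      show c.π.app j.left ≫ D.map j.hom = (a ≫ q) ≫ f₀
      rw [c.w, Category.assoc, hX.w, ← Category.assoc, ha, Category.id_comp])
  obtain ⟨j₁, α, hα1, hα2⟩ := key1
  -- Step B: the endomorphism
  have hlimX := isLimitPbCone D (𝟙 i₀) f₀ c hc q g hX
  haveI : ∀ j : Over i₀, CompactSpace ((pbDiagram D (𝟙 i₀) f₀).obj j) := fun j => by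
    show CompactSpace ↥(pullback f₀ (D.map (j.hom ≫ 𝟙 i₀)))
    infer_instance
  haveI : ∀ j : Over i₀, QuasiSeparatedSpace ((pbDiagram D (𝟙 i₀) f₀).obj j) := fun j => by
    show QuasiSeparatedSpace ↥(pullback f₀ (D.map (j.hom ≫ 𝟙 i₀)))
    exact quasiSeparatedSpace_of_quasiSeparated (pullback.snd f₀ (D.map (j.hom ≫ 𝟙 i₀)))
  have key2 : ∃ (j₂ : Over i₀) (ρ : pullback f₀ (D.map (j₂.hom ≫ 𝟙 i₀)) ⟶ X₀),
      pbLift D (𝟙 i₀) f₀ c q g hX.w j₂ ≫ ρ = r ≫ q ∧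
        ρ ≫ f₀ = pullback.fst f₀ (D.map (j₂.hom ≫ 𝟙 i₀)) ≫ f₀ :=
    Scheme.exists_π_app_comp_eq_of_locallyOfFinitePresentation
    (pbDiagram D (𝟙 i₀) f₀) (pbT D (𝟙 i₀) f₀ f₀) f₀ (pbCone D (𝟙 i₀) f₀ c q g hX.w) hlimX
    (r ≫ q) (by
      refine NatTrans.ext (funext fun j => ?_)
      show pbLift D (𝟙 i₀) f₀ c q g hX.w j ≫ pullback.fst f₀ (D.map (j.hom ≫ 𝟙 i₀)) ≫ f₀ =
        (r ≫ q) ≫ f₀
      rw [← Category.assoc, pbLift_fst, Category.assoc, hX.w, ← Category.assoc, hr])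
  obtain ⟨j₂, ρ, hρ1, hρ2⟩ := key2
  -- Step C: a common stage
  let j : Over i₀ := IsCofiltered.min j₁ j₂
  let u₁ : j ⟶ j₁ := IsCofiltered.minToLeft j₁ j₂
  let u₂ : j ⟶ j₂ := IsCofiltered.minToRight j₁ j₂
  let αj : D.obj j.left ⟶ X₀ := D.map u₁.left ≫ α
  have hαj : αj ≫ f₀ = 𝟙 _ ≫ D.map (j.hom ≫ 𝟙 i₀) := by
    show (D.map u₁.left ≫ α) ≫ f₀ = 𝟙 _ ≫ D.map (j.hom ≫ 𝟙 i₀)
    rw [Category.assoc, hα2, ← D.map_comp, Over.w u₁, Category.id_comp, Category.comp_id]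
  let ρj : pullback f₀ (D.map (j.hom ≫ 𝟙 i₀)) ⟶ X₀ := pbMap D (𝟙 i₀) f₀ u₂ ≫ ρ
  have hρj : ρj ≫ f₀ = pullback.snd f₀ (D.map (j.hom ≫ 𝟙 i₀)) ≫ D.map (j.hom ≫ 𝟙 i₀) := by
    show (pbMap D (𝟙 i₀) f₀ u₂ ≫ ρ) ≫ f₀ = _
    rw [Category.assoc, hρ2, ← Category.assoc, pbMap_fst, pullback.condition]
  refine ⟨j.left, j.hom ≫ 𝟙 i₀, pullback.lift ρj (pullback.snd _ _) hρj,
    pullback.lift αj (𝟙 _) hαj, pullback.lift_snd _ _ _, pullback.lift_snd _ _ _, ?_, ?_⟩
  · apply pullback.hom_ext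
    · rw [Category.assoc, pullback.lift_fst, Category.assoc, pullback.lift_fst]
      show r ≫ q = pbLift D (𝟙 i₀) f₀ c q g hX.w j ≫ pbMap D (𝟙 i₀) f₀ u₂ ≫ ρ
      rw [← Category.assoc, pbLift_pbMap, hρ1]
    · rw [Category.assoc, pullback.lift_snd, Category.assoc, pullback.lift_snd,
        pullback.lift_snd, ← Category.assoc, hr]
  · apply pullback.hom_ext
    · rw [Category.assoc, pullback.lift_fst, Category.assoc, pullback.lift_fst]
      show a ≫ q = c.π.app j.left ≫ D.map u₁.left ≫ α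
      rw [← Category.assoc, c.w, hα1]
    · rw [Category.assoc, pullback.lift_snd, Category.assoc, pullback.lift_snd,
        Category.comp_id, ← Category.assoc, ha, Category.id_comp]

end Groth.Agent.H74.FO.MD
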