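import Mathlib
import Groth.Agent.S0591
import Groth.Agent.H74.FO.FA
import Groth.Agent.H87.FO_PD
import Groth.Agent.H74.FO.MD

/-!
# helper74: S14816 assembly — points of an abelian variety over `𝔽̄_p` have finite order
-/

set_option autoImplicit false
set_option linter.style.haveILetI false
universe u
open CategoryTheory CategoryTheory.Limits MonoidalCategory CartesianMonoidalCategory MonObj GrpObj
  AlgebraicGeometry

namespace Groth.Agent.H74.FO

section general

variable {C : Type*} [Category C] [CartesianMonoidalCategory C]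

lemma pt_toUnit {Y : C} (p : 𝟙_ C ⟶ Y) : p ≫ toUnit Y = 𝟙 (𝟙_ C) := toUnit_unique _ _

/-- right translation by a point -/
def rA {A : C} [GrpObj A] (a : 𝟙_ C ⟶ A) : A ⟶ A := (𝟙 A) * (toUnit A ≫ a)

lemma comp_rA {A : C} [GrpObj A] (a x : 𝟙_ C ⟶ A) : x ≫ rA a = x * a := by
  unfold rA
  rw [MonObj.comp_mul, Category.comp_id, ← Category.assoc, pt_toUnit, Category.id_comp]

/-- iterates of an endomorphism -/
def iter {Y : C} (r : Y ⟶ Y) : ℕ → (Y ⟶ Y)
  | 0 => 𝟙 Y
  | (n + 1) => iter r n ≫ r

lemma pow_succ_eq_comp_iter {A : C} [GrpObj A] (a : 𝟙_ C ⟶ A) (n : ℕ) :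
    a ^ (n + 1) = a ≫ iter (rA a) n := by
  induction n with
  | zero => simp [iter]
  | succ n ih =>
    rw [pow_succ, ih, ← comp_rA a (a ≫ iter (rA a) n), Category.assoc]
    rfl

end general

section main

theorem iter_left {S : Scheme.{u}} {A : Over S} (r : A ⟶ A) (n : ℕ) :
    (iter r n).left = iter r.left n := by
  induction n with
  | zero => rfl
  | succ n ih =>
    show (iter r n ≫ r).left = iter r.left n ≫ r.left
    rw [Over.comp_left, ih]

theorem iter_comp_eq {Y Z : Scheme.{u}} (r : Y ⟶ Y) (s : Y ⟶ Z) (h : r ≫ s = s) (n : ℕ) :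
    iter r n ≫ s = s := by
  induction n with
  | zero => exact Category.id_comp _
  | succ n ih =>
    show (iter r n ≫ r) ≫ s = s
    rw [Category.assoc, h, ih]

theorem iter_semiconj {X Y : Scheme.{u}} (r : X ⟶ X) (r' : Y ⟶ Y) (π : X ⟶ Y)
    (h : r ≫ π = π ≫ r') (n : ℕ) : iter r n ≫ π = π ≫ iter r' n := by
  induction n with
  | zero =>
    show 𝟙 X ≫ π = π ≫ 𝟙 Y
    rw [Category.id_comp, Category.comp_id]
  | succ n ih =>
    show (iter r n ≫ r) ≫ π = π ≫ (iter r' n ≫ r')
    rw [Category.assoc, h, ← Category.assoc, ih, Category.assoc]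

theorem main (p : ℕ) [Fact (Nat.Prime p)] (k : Type u) [Field k] [CharP k p]
    (halg : ∀ x : k, ∃ n : ℕ, 0 < n ∧ x ^ (p ^ n) = x)
    (A : Over (Spec (CommRingCat.of k))) [GrpObj A] [IsProper A.hom]
    (a : 𝟙_ (Over (Spec (CommRingCat.of k))) ⟶ A) : IsOfFinOrder a := by
  classical
  obtain ⟨J, iJ, iF, R, inc, ⟨hcol⟩, hfin⟩ := FA.exists_finite_field_system p k halg
  let s : Cocone R := Cocone.mk (CommRingCat.of k) inc
  let D : Jᵒᵖ ⥤ Scheme.{u} := R.op ⋙ Scheme.Spec
  let c : Cone D := Scheme.Spec.mapCone s.op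
  have hc : IsLimit c := isLimitOfPreserves Scheme.Spec hcol.op
  haveI hAff : ∀ (i j : Jᵒᵖ) (f : i ⟶ j), IsAffineHom (D.map f) := fun i j f => by
    show IsAffineHom (Spec.map (R.map f.unop))
    infer_instance
  haveI : ∀ i, CompactSpace (D.obj i) := fun i => by
    show CompactSpace (Spec (R.obj i.unop))
    infer_instance
  haveI : ∀ i, QuasiSeparatedSpace (D.obj i) := fun i => by
    show QuasiSeparatedSpace (Spec (R.obj i.unop))
    infer_instance
  haveI : LocallyOfFinitePresentation A.hom :=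
    LocallyOfFinitePresentation.iff_locallyOfFiniteType.mpr inferInstance
  obtain ⟨i, Xi, fi, g, h1, h2, h3, hpb⟩ :=
    Groth.Agent.S0591.result D c hc A.left (show A.left ⟶ c.pt from A.hom)
  haveI := h1; haveI := h2; haveI := h3
  have hwa : a.left ≫ (show A.left ⟶ c.pt from A.hom) = 𝟙 _ := Over.w a
  obtain ⟨j, φ, rj, aj, hrj, haj, hr, ha⟩ := MD.exists_stage_endo_section D c hc i fi
    (show A.left ⟶ c.pt from A.hom) g hpb (rA a).left (Over.w (rA a)) a.left hwa
  -- finiteness
  haveI : Finite (R.obj j.unop) := (hfin j.unop).2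
  haveI hfinite : Finite {b : Spec (R.obj j.unop) ⟶ pullback fi (D.map φ) //
      b ≫ (show pullback fi (D.map φ) ⟶ Spec (R.obj j.unop) from pullback.snd fi (D.map φ)) =
        𝟙 _} :=
    Groth.Agent.H87.FO_PD.finite_sections_of_finite_field (R.obj j.unop) (hfin j.unop).1
      (show pullback fi (D.map φ) ⟶ Spec (R.obj j.unop) from pullback.snd fi (D.map φ))
  -- the projection to the stage
  have hw : g ≫ fi = ((show A.left ⟶ c.pt from A.hom) ≫ c.π.app j) ≫ D.map φ := by
    rw [hpb.w, Category.assoc, c.w]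
  set prj : A.left ⟶ pullback fi (D.map φ) :=
    pullback.lift g ((show A.left ⟶ c.pt from A.hom) ≫ c.π.app j) hw with hprj
  have hprj_pb : IsPullback prj (show A.left ⟶ c.pt from A.hom) (pullback.snd fi (D.map φ))
      (c.π.app j) := by
    have big : IsPullback (prj ≫ pullback.fst fi (D.map φ)) (show A.left ⟶ c.pt from A.hom) fi
        (c.π.app j ≫ D.map φ) := by
      rw [hprj, pullback.lift_fst, c.w]
      exact hpb
    exact IsPullback.of_right big (pullback.lift_snd _ _ _) (IsPullback.of_hasPullback _ _)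
  -- the sequence of rational points
  let b : ℕ → {b : Spec (R.obj j.unop) ⟶ pullback fi (D.map φ) //
      b ≫ (show pullback fi (D.map φ) ⟶ Spec (R.obj j.unop) from pullback.snd fi (D.map φ)) =
        𝟙 _} := fun n => ⟨aj ≫ iter rj n, by
      rw [Category.assoc]
      rw [iter_comp_eq rj _ hrj n]
      exact haj⟩
  obtain ⟨n, n', hne, hb⟩ := Finite.exists_ne_map_eq_of_infinite b
  have hb' : aj ≫ iter rj n = aj ≫ iter rj n' := congrArg Subtype.val hb
  -- compare the powers of `a`
  have key : ∀ m : ℕ, (a ^ (m + 1)).left ≫ prj = c.π.app j ≫ aj ≫ iter rj m := by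
    intro m
    rw [pow_succ_eq_comp_iter, Over.comp_left, iter_left, Category.assoc,
      iter_semiconj (rA a).left rj prj hr m, ← Category.assoc, ha, Category.assoc]
  have hleft : (a ^ (n + 1)).left = (a ^ (n' + 1)).left := by
    apply hprj_pb.hom_ext
    · rw [key, key, hb']
    · exact (Over.w (a ^ (n + 1))).trans (Over.w (a ^ (n' + 1))).symm
  have hpow : a ^ (n + 1) = a ^ (n' + 1) := Over.OverMorphism.ext hleft
  by_contra hnot
  have hinj := injective_pow_iff_not_isOfFinOrder.mpr hnot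
  exact hne (Nat.succ_injective (hinj hpow))

end main

end Groth.Agent.H74.FO
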